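import Cfsg.Agent.H13.Data

/-!
Data for the bound on the two part of the multiplier of M22.
-/

set_option autoImplicit false

namespace Cfsg.Agent.H10.M22Mult.TwoData

open Cfsg.Agent.H13

/-- A basis of a Sylow subgroup. -/
def sylGens : List PL := [
  ([0, 9, 6, 12, 21, 1, 2, 13, 5, 8, 7, 19, 3, 22, 17, 11, 16, 4, 15, 18, 20, 14, 10, 23], [0, 5, 6, 12, 17, 8, 2, 10, 9, 1, 22, 15, 3, 7, 21, 18, 16, 14, 19, 11, 20, 4, 13, 23]), ([0, 13, 6, 3, 21, 1, 2, 9, 11, 17, 7, 19, 12, 15, 8, 5, 20, 10, 22, 14, 16, 18, 4, 23], [0, 5, 6, 3, 22, 15, 2, 10, 14, 7, 17, 8, 12, 1, 19, 13, 20, 9, 21, 11, 16, 4, 18, 23]), ([0, 9, 3, 2, 1, 21, 12, 11, 5, 17, 22, 15, 6, 7, 8, 13, 16, 4, 19, 10, 20, 14, 18, 23], [0, 4, 3, 2, 17, 8, 12, 13, 14, 1, 19, 7, 6, 15, 21, 11, 16, 9, 22, 18, 20, 5, 10, 23]), ([0, 19,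 2, 3, 11, 10, 6, 21, 15, 13, 5, 4, 12, 9, 18, 8, 16, 22, 14, 1, 20, 7, 17, 23], [0, 19, 2, 3, 11, 10, 6, 21, 15, 13, 5, 4, 12, 9, 18, 8, 16, 22, 14, 1, 20, 7, 17, 23]), ([0, 19, 6, 12, 18, 13, 2, 1, 15, 10, 14, 9, 3, 4, 11, 17, 16, 22, 5, 21, 20, 7, 8, 23], [0, 7, 6, 12, 13, 18, 2, 21, 22, 11, 9, 14, 3, 5, 10, 8, 16, 15, 4, 1, 20, 19, 17, 23]), ([0, 8, 2, 3, 14, 9, 6, 22, 1, 5, 13, 18, 12, 10, 4, 19, 16, 21, 11, 15, 20, 17, 7, 23], [0, 8, 2, 3, 14, 9, 6, 22, 1, 5, 13, 18, 12, 10, 4, 19, 16, 21, 11, 15, 20, 17, 7, 23]), ([0, 21, 2, 3, 5, 4, 6, 19, 17, 14, 11, 10, 12, 18, 9, 22, 16, 8, 13, 7, 20, 1, 15, 23], [0, 21, 2, 3, 5, 4, 6, 19, 17, 14, 11, 10, 12, 18, 9, 22, 16, 8, 13, 7, 20, 1, 15, 23])]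

/-- Relations: left index, right index, word. -/
def relWords : List (ℕ × ℕ × List ℕ) := [
  (0, 0, [5]), (1, 0, [1, 3]), (1, 1, [3, 5]), (2, 0, [2, 6]), (2, 1, [2, 4]), (2, 2, [5, 6]), (3, 0, [3, 6]), (3, 1, [3, 6]), (3, 2, [3, 5]), (3, 3, []), (4, 0, [4, 5, 6]), (4, 1, [4, 5, 6]), (4, 2, [4]), (4, 3, [4, 6]), (4, 4, [6]), (5, 0, [5]), (5, 1, [5, 6]), (5, 2, [5]), (5, 3, [5]), (5, 4, [5]), (5, 5, []), (6, 0, [6]), (6, 1, [6]), (6, 2, [6]), (6, 3, [6]), (6, 4, [6]), (6, 5, [6]), (6, 6, [])]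

/-- The defining pairs of the later lifts. -/
def defPairs : List (ℕ × ℕ × ℕ) := [(3, 1, 0), (4, 2, 1), (5, 3, 2), (6, 5, 1)]

/-- Triples for associativity. -/
def consWords : List (ℕ × ℕ × ℕ) := [(0, 0, 0), (1, 0, 0), (1, 1, 0), (1, 1, 1), (2, 0, 0), (2, 1, 0), (2, 1, 1), (2, 2, 0), (2, 2, 1), (2, 2, 2), (3, 0, 0), (3, 1, 0), (3, 1, 1), (3, 2, 0), (3, 2, 1), (3, 2, 2), (3, 3, 0), (4, 0, 0), (4, 1, 0), (4, 1, 1), (4, 2, 2)]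

/-- Pairs whose constants vanish. -/
def defEqs : List (ℕ × ℕ) := [(1, 0), (2, 1), (3, 2), (5, 1)]

/-- Fusion: two commuting words and their conjugates. -/
def fusWords : List (List ℕ × List ℕ × List ℕ × List ℕ) := [([0, 1, 4, 5, 6], [0, 1, 3, 5], [0, 2, 5, 6], [5]), ([3, 6], [0, 4, 6], [0, 2, 6], [0, 2, 3, 4])]

/-- Fusion elements. -/
def fusElem : List PL := [
  ([0, 6, 2, 4, 8, 11, 12, 20, 9, 21, 1, 18, 14, 17, 10, 7, 15, 5, 13, 16, 19, 3, 22, 23], [0, 10, 2, 21, 3, 17, 1, 15, 4, 8, 14, 5, 6, 18, 12, 16, 19, 13, 11, 20, 7, 9, 22, 23]), ([0, 6, 19, 7, 11, 21, 15, 3, 18, 14, 10, 8, 16, 12, 2, 17, 22, 1, 4, 9, 20, 5, 13, 23], [0, 17, 14, 7, 18, 21, 1, 3, 11, 19, 10, 4, 13, 22, 9, 6, 12, 15, 8, 2, 20, 5, 16, 23])]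

/-- The index of the generating constant. -/
def topIdx : ℕ := 3

/-- Coefficients for the exponent of the generating constant. -/
def topCert : List ℤ := [27, -42, -42, 46, -7, -8, 8, -9, 8, -1, 44, -24, -44, 28, -20, 0, 2, 4, -8, -4, 4, 0, 0, 0, 4, 0, 0]

/-- Coefficients for the constants: index, multiple, coefficients. -/
def constCert : List (ℕ × ℕ × List ℤ) := [
  (1, 0, [0, 0, 0, 0, 0, 0, 0, 0, 0, 0, 0, 0, 0, 0, 0, 0, 0, 0, 0, 0, 0, 1, 0, 0, 0, 0, 0]),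
  (3, 1, [0, 0, 0, 0, 0, 0, 0, 0, 0, 0, 0, 0, 0, 0, 0, 0, 0, 0, 0, 0, 0, 0, 0, 0, 0, 0, 0]),
  (4, 0, [0, 0, 0, 0, 0, 0, 0, 0, 0, 0, 0, 0, 0, 0, 0, 0, 0, 0, 0, 0, 0, 0, 1, 0, 0, 0, 0]),
  (6, 2, [-40, 60, 60, -69, 12, 10, -13, 13, -13, 0, -68, 33, 64, -43, 31, 1, -8, -6, 15, 6, -7, 0, 0, 0, -1, 1, 1]),
  (7, 0, [7, -11, -11, 12, -2, -2, 2, -2, 2, 0, 11, -6, -11, 7, -5, 0, 0, 1, -2, -1, 1, 0, 0, 0, 1, 0, 0]),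
  (8, 0, [0, 0, 0, 0, 0, 0, 0, 0, 0, 0, 0, 0, 0, 0, 0, 0, 0, 0, 0, 0, 0, 0, 0, 1, 0, 0, 0]),
  (9, 2, [29, -40, -41, 48, -8, -6, 9, -7, 9, 0, 46, -23, -44, 27, -21, -1, 5, 4, -11, -4, 5, -2, 0, 0, -2, -1, -1]),
  (10, 0, [16, -28, -28, 32, -6, -5, 6, -6, 6, 1, 31, -16, -30, 21, -14, -1, 3, 3, -6, -3, 3, 0, 0, 1, 1, 0, 0]),
  (11, 2, [-79, 117, 117, -135, 22, 19, -25, 23, -25, 0, -131, 65, 125, -82, 60, 2, -14, -11, 30, 12, -13, 0, 0, 1, -1, 2, 1]),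
  (12, 2, [-107, 162, 162, -186, 31, 27, -34, 32, -34, -1, -180, 90, 173, -114, 82, 3, -18, -15, 40, 16, -17, 0, 0, 0, -2, 2, 1]),
  (13, 0, [15, -22, -22, 24, -4, -4, 4, -4, 4, 0, 23, -12, -23, 14, -10, 0, 1, 2, -5, -2, 2, 0, 0, 0, 1, 0, 0]),
  (14, 0, [83, -126, -126, 146, -25, -21, 28, -25, 27, 1, 142, -70, -135, 90, -65, -3, 16, 12, -32, -13, 14, 0, -2, 0, 1, -2, -1]),
  (15, 0, [1, 0, 0, 0, 0, 0, 0, 0, 0, 0, 0, 0, 0, 0, 0, 0, 0, 0, 0, 0, 0, 0, 0, 0, 0, 0, 0]),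
  (16, 0, [0, 0, 0, 0, 0, 0, 0, 0, 0, 0, 0, 0, 0, 0, 0, 0, 0, 0, 0, 0, 0, 0, 0, 0, 1, 0, 0]),
  (17, 0, [0, -1, -1, 1, 0, 0, 0, 0, 0, 1, 1, -1, -1, 1, 0, 0, 0, 0, 0, 0, 0, 0, 0, 0, 0, 0, 0]),
  (18, 2, [-14, 21, 21, -23, 3, 4, -4, 4, -4, 1, -21, 12, 22, -13, 10, 0, 0, -2, 4, 2, -2, 0, 0, 0, -2, 0, 0]),
  (19, 0, [-15, 24, 24, -28, 5, 4, -6, 5, -6, 0, -27, 13, 26, -18, 13, 1, -3, -2, 6, 3, -3, 0, 0, 0, 0, 0, 0]),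
  (20, 2, [-24, 41, 41, -47, 8, 8, -8, 9, -8, -1, -45, 24, 44, -30, 20, 1, -4, -4, 8, 4, -4, 0, 0, -2, -2, 0, 0]),
  (21, 2, [-14, 22, 22, -24, 4, 4, -4, 5, -4, 0, -23, 13, 23, -15, 10, 0, -1, -2, 4, 2, -2, 0, 0, 0, -2, 0, 0]),
  (22, 2, [-14, 22, 22, -24, 4, 4, -4, 5, -4, 0, -23, 12, 23, -15, 10, 0, -1, -2, 4, 2, -2, 0, 0, 0, -2, 0, 0]),
  (23, 0, [0, 1, 1, -1, 0, 0, 0, 0, 0, 0, -1, 1, 1, -1, 0, 0, 0, 0, 0, 0, 0, 0, 0, 0, 0, 0, 0]),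
  (24, 0, [-1, 1, 1, -1, 0, 0, 0, 0, 0, 0, -1, 1, 1, 0, 0, 0, 0, 0, 0, 0, 0, 0, 0, 0, 0, 0, 0]),
  (25, 0, [17, -26, -26, 30, -5, -4, 6, -5, 6, 0, 29, -14, -28, 19, -14, -1, 3, 2, -7, -3, 3, 0, 0, 0, 0, 0, 0]),
  (26, 0, [6, -10, -10, 12, -2, -2, 2, -2, 2, 0, 11, -6, -11, 7, -5, 0, 1, 1, -2, -1, 1, 0, 0, 0, 0, 0, 0]),
  (27, 0, [-13, 21, 21, -23, 4, 4, -4, 4, -4, 0, -22, 12, 22, -14, 10, 0, -1, -2, 4, 2, -2, 0, 0, 0, -2, 0, 0])]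

/-- Indices of the free constants. -/
def freeIdx : List ℕ := [0, 2, 5]

/-- Rank two configuration for the prime three. -/
def threeElems : List PL := [
  ([0, 12, 3, 13, 20, 5, 21, 15, 17, 9, 10, 7, 19, 2, 4, 11, 16, 18, 8, 1, 14, 22, 6, 23], [0, 19, 13, 2, 14, 5, 22, 11, 18, 9, 10, 15, 1, 3, 20, 7, 16, 8, 17, 12, 4, 6, 21, 23]), ([0, 4, 2, 3, 22, 9, 12, 15, 18, 10, 5, 7, 20, 13, 21, 11, 16, 8, 17, 14, 6, 19, 1, 23], [0, 22, 2, 3, 1, 10, 20, 11, 17, 5, 9, 15, 6, 13, 19, 7, 16, 18, 8, 21, 12, 14, 4, 23])]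

/-- Chain of the Sylow subgroup. -/
def sylLevels : List Level := [
  ⟨1, [(0, 0), (0, 1), (0, 3), (0, 5), (0, 6), (1, 1), (1, 4), (1, 5), (1, 6), (2, 0), (2, 1), (2, 2), (2, 4), (2, 6), (4, 1)], [(3, 2, 14), (2, 0, 12)]⟩,
  ⟨2, [(0, 0), (0, 1), (1, 0)], [(3, 1, 1)]⟩,
  ⟨3, [(0, 0)], []⟩]

theorem syl_check : check 24 sylLevels sylGens = true := by decide +kernel

/-- Chain of the rank two subgroup for the prime three. -/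
def threeLevels : List Level := [
  ⟨1, [(0, 0), (0, 1), (1, 0), (1, 1), (2, 1), (3, 1), (4, 1), (6, 1)], []⟩]

theorem three_check : check 24 threeLevels threeElems = true := by decide +kernel

end Cfsg.Agent.H10.M22Mult.TwoData
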